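import Cfsg.Agent.Lib.Char.Equiv
import Cfsg.Agent.Lib.Char.Integral
import Cfsg.Agent.Lib.Char.Realize
import Cfsg.Agent.Lib.RealChar.Indicator

/-!
# Invariant bilinear forms and the Frobenius–Schur indicator; real forms
-/

set_option autoImplicit false

namespace CfsgLib.IndicatorForm

open Matrix Module
open scoped ComplexConjugate Classical

universe u

variable {G : Type u} [Group G] [Fintype G] {n : ℕ} (ρ : Representation ℂ G (Fin n → ℂ))

/-- The matrix of a group element. -/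
noncomputable def mat (g : G) : Matrix (Fin n) (Fin n) ℂ := LinearMap.toMatrix' (ρ g)

omit [Fintype G] in
theorem mat_mul (g h : G) : mat ρ (g * h) = mat ρ g * mat ρ h := by
  simp [mat, map_mul, Module.End.mul_eq_comp, LinearMap.toMatrix'_comp]

omit [Fintype G] in
theorem mat_one : mat ρ 1 = 1 := by
  simp [mat, map_one, Module.End.one_eq_id]

omit [Fintype G] in
theorem trace_mat (g : G) : (mat ρ g).trace = ρ.character g := by
  rw [mat, Representation.character, LinearMap.trace_eq_matrix_trace ℂ (Pi.basisFun ℂ (Fin n)),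
    LinearMap.toMatrix_eq_toMatrix']

/-- A matrix of a bilinear form invariant under the group. -/
def IsInv (M : Matrix (Fin n) (Fin n) ℂ) : Prop := ∀ g : G, (mat ρ g)ᵀ * M * mat ρ g = M

/-- The contragredient representation. -/
noncomputable def contra : Representation ℂ G (Fin n → ℂ) where
  toFun g := Matrix.toLin' (mat ρ g⁻¹)ᵀ
  map_one' := by rw [inv_one, mat_one, Matrix.transpose_one, Matrix.toLin'_one]; rfl
  map_mul' a b := by
    rw [_root_.mul_inv_rev, mat_mul, Matrix.transpose_mul, Matrix.toLin'_mul, Module.End.mul_eq_comp]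

theorem exists_inv_unit (hreal : ∀ g : G, (ρ.character g).im = 0) :
    ∃ T : (Matrix (Fin n) (Fin n) ℂ)ˣ, IsInv ρ (T : Matrix (Fin n) (Fin n) ℂ) := by
  have hchar : (contra ρ).character = ρ.character := by
    funext g
    show LinearMap.trace ℂ _ (Matrix.toLin' (mat ρ g⁻¹)ᵀ) = _
    rw [Matrix.trace_toLin'_eq, Matrix.trace_transpose, trace_mat, CfsgLib.Char.character_inv,
      Complex.conj_eq_iff_im.mpr (hreal g)]
  obtain ⟨e⟩ := CfsgLib.Char.nonempty_equiv_of_character_eq ρ (contra ρ) hchar.symm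
  obtain ⟨f, hf⟩ : ∃ f : (Fin n → ℂ) ≃ₗ[ℂ] (Fin n → ℂ), ∀ g v, f (ρ g v) = contra ρ g (f v) :=
    ⟨e.toLinearEquiv, fun g v => e.toIntertwiningMap.isIntertwining ρ (contra ρ) g v⟩
  let T : Matrix (Fin n) (Fin n) ℂ :=
    LinearMap.toMatrix' (f : (Fin n → ℂ) →ₗ[ℂ] (Fin n → ℂ))
  have hTu : IsUnit T := by
    rw [isUnit_iff_exists]
    refine ⟨LinearMap.toMatrix' (f.symm : (Fin n → ℂ) →ₗ[ℂ] (Fin n → ℂ)), ?_, ?_⟩ <;>
    · rw [← LinearMap.toMatrix'_comp]; simp
  have hint : ∀ g, (mat ρ g⁻¹)ᵀ * T = T * mat ρ g := by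
    intro g
    apply Matrix.toLin'.injective
    refine LinearMap.ext fun v => ?_
    rw [Matrix.toLin'_mul, Matrix.toLin'_mul, LinearMap.comp_apply, LinearMap.comp_apply]
    simp only [T, mat, Matrix.toLin'_toMatrix']
    exact (hf g v).symm
  refine ⟨hTu.unit, fun g => ?_⟩
  show (mat ρ g)ᵀ * T * mat ρ g = T
  rw [Matrix.mul_assoc, ← hint g, ← Matrix.mul_assoc, ← Matrix.transpose_mul, ← mat_mul,
    inv_mul_cancel, mat_one, Matrix.transpose_one, Matrix.one_mul]

theorem exists_smul_of_inv [ρ.IsIrreducible] {T : (Matrix (Fin n) (Fin n) ℂ)ˣ}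
    (hT : IsInv ρ (T : Matrix (Fin n) (Fin n) ℂ)) {M : Matrix (Fin n) (Fin n) ℂ}
    (hM : IsInv ρ M) : ∃ a : ℂ, M = a • (T : Matrix (Fin n) (Fin n) ℂ) := by
  have key : ∀ Q, IsInv ρ Q → ∀ g, Q * mat ρ g = (mat ρ g⁻¹)ᵀ * Q := by
    intro Q hQ g
    conv_rhs => rw [← hQ g]
    rw [← Matrix.mul_assoc, ← Matrix.mul_assoc, ← Matrix.transpose_mul, ← mat_mul, mul_inv_cancel,
      mat_one, Matrix.transpose_one, Matrix.one_mul]
  set U : Matrix (Fin n) (Fin n) ℂ := Units.val T⁻¹ with hU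
  have hUc : ∀ g, U * (mat ρ g⁻¹)ᵀ = mat ρ g * U := by
    intro g
    calc U * (mat ρ g⁻¹)ᵀ = U * ((mat ρ g⁻¹)ᵀ * (T : Matrix _ _ ℂ)) * U := by
          rw [Matrix.mul_assoc U, Matrix.mul_assoc, hU, Units.mul_inv, Matrix.mul_one]
      _ = mat ρ g * U := by
          rw [← key _ hT g, ← Matrix.mul_assoc, hU, Units.inv_mul, Matrix.one_mul]
  obtain ⟨a, ha⟩ := CfsgLib.Char.exists_scalar_of_commute ρ (Matrix.toLin' (U * M)) fun g => by
    have hmat : ρ g = Matrix.toLin' (mat ρ g) := (Matrix.toLin'_toMatrix' _).symm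
    rw [hmat, Module.End.mul_eq_comp, Module.End.mul_eq_comp, ← Matrix.toLin'_mul,
      ← Matrix.toLin'_mul]
    congr 1
    rw [Matrix.mul_assoc, key M hM g, ← Matrix.mul_assoc, hUc, Matrix.mul_assoc]
  refine ⟨a, ?_⟩
  have h1 := congrArg LinearMap.toMatrix' ha
  rw [LinearMap.toMatrix'_toLin', map_smul, Module.End.one_eq_id, LinearMap.toMatrix'_id] at h1
  calc M = (T : Matrix _ _ ℂ) * (U * M) := by rw [← Matrix.mul_assoc, hU, Units.mul_inv, Matrix.one_mul]
    _ = a • (T : Matrix _ _ ℂ) := by rw [h1, Matrix.mul_smul, Matrix.mul_one]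

/-- Every invariant form has symmetry given by the indicator. -/
theorem transpose_eq_indicator_smul [ρ.IsIrreducible] (hreal : ∀ g : G, (ρ.character g).im = 0)
    {M : Matrix (Fin n) (Fin n) ℂ} (hM : IsInv ρ M) :
    Mᵀ = ((Nat.card G : ℂ)⁻¹ * ∑ s : G, ρ.character (s * s)) • M := by
  obtain ⟨T, hT⟩ := exists_inv_unit ρ hreal
  set T' : Matrix (Fin n) (Fin n) ℂ := (T : Matrix (Fin n) (Fin n) ℂ) with hT'
  have hTt : IsInv ρ T'ᵀ := fun g => by
    conv_rhs => rw [← hT g]
    simp [hT', Matrix.transpose_mul, Matrix.mul_assoc]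
  obtain ⟨c, hc⟩ := exists_smul_of_inv ρ hT hTt
  have hG : (Nat.card G : ℂ) ≠ 0 := Nat.cast_ne_zero.mpr Nat.card_pos.ne'
  haveI : Nontrivial (Matrix (Fin n) (Fin n) ℂ) := by
    have h0 := CfsgLib.Char.finrank_pos_of_irreducible ρ
    rw [Module.finrank_fin_fun] at h0
    haveI : Nonempty (Fin n) := ⟨⟨0, h0⟩⟩
    infer_instance
  have hT0 : T' ≠ 0 := T.ne_zero
  let P : Matrix (Fin n) (Fin n) ℂ →ₗ[ℂ] Matrix (Fin n) (Fin n) ℂ :=
    { toFun := fun E => (Nat.card G : ℂ)⁻¹ • ∑ s, (mat ρ s)ᵀ * E * mat ρ s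
      map_add' := fun A B => by
        simp only [Matrix.mul_add, Matrix.add_mul, Finset.sum_add_distrib, smul_add]
      map_smul' := fun r A => by
        simp only [Matrix.mul_smul, Matrix.smul_mul, ← Finset.smul_sum, RingHom.id_apply]
        rw [smul_comm] }
  have hP : ∀ E, IsInv ρ (P E) := by
    intro E g
    show (mat ρ g)ᵀ * ((Nat.card G : ℂ)⁻¹ • ∑ s, (mat ρ s)ᵀ * E * mat ρ s) * mat ρ g =
      (Nat.card G : ℂ)⁻¹ • ∑ s, (mat ρ s)ᵀ * E * mat ρ s
    simp only [Matrix.mul_smul, Matrix.smul_mul, Finset.mul_sum, Finset.sum_mul]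
    congr 1
    refine Fintype.sum_equiv (Equiv.mulRight g) _ _ fun s => ?_
    simp only [Equiv.coe_mulRight, mat_mul, Matrix.transpose_mul, Matrix.mul_assoc]
  choose lam hlam using fun E => exists_smul_of_inv ρ hT (hP E)
  have hlamT : ∀ E, lam Eᵀ = c * lam E := by
    intro E
    have h1 : P Eᵀ = (P E)ᵀ := by
      show (Nat.card G : ℂ)⁻¹ • ∑ s, (mat ρ s)ᵀ * Eᵀ * mat ρ s = _
      simp [P, Matrix.transpose_sum, Matrix.transpose_mul, Matrix.mul_assoc]
    rw [hlam, hlam, Matrix.transpose_smul, hc, smul_smul] at h1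
    rw [mul_comm]
    exact smul_left_injective ℂ hT0 h1
  have hPT : P T' = T' := by
    show (Nat.card G : ℂ)⁻¹ • ∑ s, (mat ρ s)ᵀ * T' * mat ρ s = T'
    rw [Finset.sum_congr rfl fun s _ => show (mat ρ s)ᵀ * T' * mat ρ s = T' from hT s,
      Finset.sum_const, Finset.card_univ, ← Nat.card_eq_fintype_card,
      ← Nat.cast_smul_eq_nsmul ℂ, smul_smul, inv_mul_cancel₀ hG, one_smul]
  have hone : ∑ i, ∑ j, T' i j * lam (Matrix.single i j 1) = 1 := by
    have h1 : P T' = ∑ i, ∑ j, T' i j • P (Matrix.single i j 1) := by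
      conv_lhs => rw [Matrix.matrix_eq_sum_single T']
      simp only [map_sum]
      refine Finset.sum_congr rfl fun i _ => Finset.sum_congr rfl fun j _ => ?_
      rw [← map_smul, Matrix.smul_single, smul_eq_mul, mul_one]
    rw [hPT] at h1
    simp only [hlam, smul_smul, ← Finset.sum_smul] at h1
    exact smul_left_injective ℂ hT0 (h1.symm.trans (one_smul ℂ T').symm)
  have hν : (Nat.card G : ℂ)⁻¹ * ∑ s : G, ρ.character (s * s) = c := by
    calc (Nat.card G : ℂ)⁻¹ * ∑ s : G, ρ.character (s * s)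
        = ∑ i, ∑ j, P (Matrix.single i j 1) j i := by
          simp only [P, LinearMap.coe_mk, AddHom.coe_mk, Matrix.smul_apply, Matrix.sum_apply,
            smul_eq_mul, ← Finset.mul_sum]
          congr 1
          rw [Finset.sum_congr rfl fun i _ => Finset.sum_comm, Finset.sum_comm]
          refine Finset.sum_congr rfl fun s _ => ?_
          rw [← trace_mat, mat_mul, Matrix.trace]
          refine Finset.sum_congr rfl fun i _ => ?_
          rw [Matrix.diag, Matrix.mul_apply]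
          refine Finset.sum_congr rfl fun j _ => ?_
          simp [Matrix.mul_apply, Matrix.single_apply, Matrix.transpose_apply, ite_and, mul_comm]
      _ = ∑ i, ∑ j, c * (T' i j * lam (Matrix.single i j 1)) := by
          refine Finset.sum_congr rfl fun i _ => Finset.sum_congr rfl fun j _ => ?_
          rw [hlam, Matrix.smul_apply, smul_eq_mul]
          have h2 : T' j i = c * T' i j := by
            have := congrFun (congrFun hc i) j
            simpa using this
          rw [show ((T : Matrix (Fin n) (Fin n) ℂ)) j i = T' j i from rfl, h2]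
          ring
      _ = c := by simp only [← Finset.mul_sum, hone, mul_one]
  obtain ⟨a, ha⟩ := exists_smul_of_inv ρ hT hM
  rw [hν, ha, Matrix.transpose_smul, hc, smul_comm]

end CfsgLib.IndicatorForm
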