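import Cfsg.Agent.Lib.IndicatorForm.Basic
import Mathlib.LinearAlgebra.Matrix.DotProduct

/-!
# A symmetric invariant form gives a real form of the representation
-/

set_option autoImplicit false

namespace CfsgLib.IndicatorForm

open Matrix Module
open scoped ComplexConjugate Classical ComplexOrder

universe u

variable {G : Type u} [Group G] [Fintype G] {n : ℕ} (ρ : Representation ℂ G (Fin n → ℂ))

theorem exists_hermitian_inv :
    ∃ H : (Matrix (Fin n) (Fin n) ℂ)ˣ, (H : Matrix (Fin n) (Fin n) ℂ)ᴴ = H ∧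
      (∀ g, (mat ρ g)ᴴ * H * mat ρ g = H) ∧
      ∀ v : Fin n → ℂ, ∃ r : ℝ, 0 ≤ r ∧ (v ≠ 0 → 0 < r) ∧
        star v ⬝ᵥ ((H : Matrix (Fin n) (Fin n) ℂ) *ᵥ v) = (r : ℂ) := by
  set H : Matrix (Fin n) (Fin n) ℂ := ∑ s, (mat ρ s)ᴴ * mat ρ s with hH
  have hnorm : ∀ w : Fin n → ℂ, star w ⬝ᵥ w = ((∑ i, Complex.normSq (w i) : ℝ) : ℂ) := by
    intro w
    push_cast
    exact Finset.sum_congr rfl fun i _ => by
      rw [Pi.star_apply, Complex.normSq_eq_conj_mul_self]; rfl
  have hval : ∀ v : Fin n → ℂ, star v ⬝ᵥ (H *ᵥ v) =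
      ((∑ s, ∑ i, Complex.normSq ((mat ρ s *ᵥ v) i) : ℝ) : ℂ) := by
    intro v
    rw [Complex.ofReal_sum, hH, Matrix.sum_mulVec, dotProduct_sum]
    refine Finset.sum_congr rfl fun s _ => ?_
    rw [← hnorm, ← Matrix.mulVec_mulVec, dotProduct_mulVec, ← star_mulVec]
  have hpos : ∀ v : Fin n → ℂ, v ≠ 0 → 0 < ∑ s, ∑ i, Complex.normSq ((mat ρ s *ᵥ v) i) := by
    intro v hv
    refine Finset.sum_pos' (fun s _ => Finset.sum_nonneg fun i _ => Complex.normSq_nonneg _)
      ⟨1, Finset.mem_univ _, ?_⟩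
    rw [mat_one, Matrix.one_mulVec]
    obtain ⟨i, hi⟩ := Function.ne_iff.1 hv
    exact Finset.sum_pos' (fun i _ => Complex.normSq_nonneg _)
      ⟨i, Finset.mem_univ _, Complex.normSq_pos.2 hi⟩
  have hu : IsUnit H := by
    rw [← Matrix.mulVec_injective_iff_isUnit]
    intro a b hab
    by_contra hne
    have h1 := hval (a - b)
    rw [Matrix.mulVec_sub, hab, sub_self, dotProduct_zero] at h1
    exact (hpos _ (sub_ne_zero.2 hne)).ne' (by exact_mod_cast h1.symm)
  refine ⟨hu.unit, ?_, fun g => ?_, fun v =>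
    ⟨_, Finset.sum_nonneg fun s _ => Finset.sum_nonneg fun i _ => Complex.normSq_nonneg _,
      hpos v, hval v⟩⟩
  · show Hᴴ = H
    simp [hH, Matrix.conjTranspose_sum, Matrix.conjTranspose_mul]
  · show (mat ρ g)ᴴ * H * mat ρ g = H
    rw [hH, Finset.mul_sum, Finset.sum_mul]
    refine Fintype.sum_equiv (Equiv.mulRight g) _ _ fun s => ?_
    simp only [Equiv.coe_mulRight, mat_mul, Matrix.conjTranspose_mul, Matrix.mul_assoc]

/-- A conjugate-linear equivariant involution. -/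
theorem exists_conj_involution [ρ.IsIrreducible] {T : (Matrix (Fin n) (Fin n) ℂ)ˣ}
    (hT : IsInv ρ (T : Matrix (Fin n) (Fin n) ℂ))
    (hsym : (T : Matrix (Fin n) (Fin n) ℂ)ᵀ = T) :
    ∃ J : (Fin n → ℂ) → (Fin n → ℂ), (∀ v w, J (v + w) = J v + J w) ∧
      (∀ (c : ℂ) v, J (c • v) = conj c • J v) ∧ (∀ g v, J (ρ g v) = ρ g (J v)) ∧
      ∀ v, J (J v) = v := by
  obtain ⟨H, hHh, hHinv, hHpos⟩ := exists_hermitian_inv ρ
  set T' : Matrix (Fin n) (Fin n) ℂ := (T : Matrix (Fin n) (Fin n) ℂ) with hT'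
  set H' : Matrix (Fin n) (Fin n) ℂ := (H : Matrix (Fin n) (Fin n) ℂ) with hH'
  set U : Matrix (Fin n) (Fin n) ℂ := Units.val H⁻¹ with hU
  let J : (Fin n → ℂ) → (Fin n → ℂ) := fun v => U *ᵥ star (T' *ᵥ v)
  have hmulVec : ∀ g v, ρ g v = mat ρ g *ᵥ v := fun g v => by
    rw [mat, ← Matrix.toLin'_apply, Matrix.toLin'_toMatrix']
  have hJadd : ∀ v w, J (v + w) = J v + J w := fun v w => by
    simp only [J, Matrix.mulVec_add, star_add]
  have hJsmul : ∀ (c : ℂ) v, J (c • v) = conj c • J v := fun c v => by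
    simp only [J, Matrix.mulVec_smul, star_smul, starRingEnd_apply]
  have hJeq : ∀ g v, J (ρ g v) = ρ g (J v) := by
    intro g v
    have h1 : T' * mat ρ g = (mat ρ g⁻¹)ᵀ * T' := by
      conv_rhs => rw [← hT g]
      rw [← Matrix.mul_assoc, ← Matrix.mul_assoc, ← Matrix.transpose_mul, ← mat_mul,
        mul_inv_cancel, mat_one, Matrix.transpose_one, Matrix.one_mul]
    have h2 : H' * mat ρ g = (mat ρ g⁻¹)ᴴ * H' := by
      conv_rhs => rw [← hHinv g]
      rw [← Matrix.mul_assoc, ← Matrix.mul_assoc, ← Matrix.conjTranspose_mul, ← mat_mul,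
        mul_inv_cancel, mat_one, Matrix.conjTranspose_one, Matrix.one_mul]
    have h3 : U * (mat ρ g⁻¹)ᴴ = mat ρ g * U := by
      calc U * (mat ρ g⁻¹)ᴴ = U * ((mat ρ g⁻¹)ᴴ * H') * U := by
            rw [Matrix.mul_assoc U, Matrix.mul_assoc, hU, hH', Units.mul_inv, Matrix.mul_one]
        _ = mat ρ g * U := by
            rw [← h2, ← Matrix.mul_assoc, hU, hH', Units.inv_mul, Matrix.one_mul]
    have h4 : star ((mat ρ g⁻¹)ᵀ *ᵥ (T' *ᵥ v)) = (mat ρ g⁻¹)ᴴ *ᵥ star (T' *ᵥ v) := by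
      rw [star_mulVec, ← Matrix.mulVec_transpose, Matrix.conjTranspose, Matrix.conjTranspose]
      rfl
    simp only [J, hmulVec]
    rw [Matrix.mulVec_mulVec v T', h1, ← Matrix.mulVec_mulVec, h4, Matrix.mulVec_mulVec, h3,
      ← Matrix.mulVec_mulVec]
  let J2 : Module.End ℂ (Fin n → ℂ) :=
    { toFun := fun v => J (J v)
      map_add' := fun v w => by rw [hJadd, hJadd]
      map_smul' := fun c v => by
        simp only [hJsmul, Complex.conj_conj, RingHom.id_apply] }
  obtain ⟨κ, hκ⟩ := CfsgLib.Char.exists_scalar_of_commute ρ J2 fun g => LinearMap.ext fun v => by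
    show J (J (ρ g v)) = ρ g (J (J v))
    rw [hJeq, hJeq]
  have hJJ : ∀ v, J (J v) = κ • v := fun v => by
    have := LinearMap.congr_fun hκ v
    exact this
  obtain ⟨v₀, hv₀⟩ : ∃ v : Fin n → ℂ, v ≠ 0 := by
    have h0 := CfsgLib.Char.finrank_pos_of_irreducible ρ
    rw [Module.finrank_fin_fun] at h0
    exact ⟨fun _ => 1, fun h => one_ne_zero (congrFun h ⟨0, h0⟩)⟩
  have hJv₀ : J v₀ ≠ 0 := by
    intro h
    have h1 : H' *ᵥ J v₀ = 0 := by rw [h, Matrix.mulVec_zero]
    simp only [J, Matrix.mulVec_mulVec] at h1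
    rw [hH', hU, Units.mul_inv, Matrix.one_mulVec, star_eq_zero] at h1
    have h2 : Units.val T⁻¹ *ᵥ (T' *ᵥ v₀) = 0 := by rw [h1, Matrix.mulVec_zero]
    rw [Matrix.mulVec_mulVec, hT', Units.inv_mul, Matrix.one_mulVec] at h2
    exact hv₀ h2
  have hHJ : ∀ v, H' *ᵥ J v = star (T' *ᵥ v) := fun v => by
    simp only [J, Matrix.mulVec_mulVec]
    rw [hH', hU, Units.mul_inv, Matrix.one_mulVec]
  -- positivity of `κ`
  obtain ⟨a, ha0, ha, hav⟩ := hHpos v₀
  obtain ⟨b, hb0, hb, hbv⟩ := hHpos (J v₀)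
  have hkey : (b : ℂ) = κ * a := by
    have h1 : T' *ᵥ J v₀ = star (H' *ᵥ (κ • v₀)) := by
      rw [← hJJ, hHJ, star_star]
    have h2 : (b : ℂ) = star (J v₀ ⬝ᵥ (T' *ᵥ v₀)) := by
      rw [← hbv, hHJ, star_dotProduct_star, dotProduct_comm]
    have h3 : J v₀ ⬝ᵥ (T' *ᵥ v₀) = v₀ ⬝ᵥ (T' *ᵥ J v₀) := by
      rw [dotProduct_mulVec, ← Matrix.mulVec_transpose, hsym, dotProduct_comm]
    rw [h2, h3, h1]
    have h4 : star (v₀ ⬝ᵥ star (H' *ᵥ (κ • v₀))) = star v₀ ⬝ᵥ (H' *ᵥ (κ • v₀)) := by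
      simp [dotProduct, star_sum, mul_comm]
    rw [h4, Matrix.mulVec_smul, dotProduct_smul, hav, smul_eq_mul]
  have hκr : κ = ((b / a : ℝ) : ℂ) := by
    have : (a : ℂ) ≠ 0 := by exact_mod_cast (ha hv₀).ne'
    push_cast
    rw [eq_div_iff this, hkey]
  set r : ℝ := Real.sqrt (b / a) with hr
  have hr0 : 0 < b / a := div_pos (hb hJv₀) (ha hv₀)
  refine ⟨fun v => ((r⁻¹ : ℝ) : ℂ) • J v, fun v w => by simp [hJadd], fun c v => ?_,
    fun g v => by simp [hJeq, map_smul], fun v => ?_⟩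
  · simp only [hJsmul, smul_smul, mul_comm]
  · simp only [hJsmul, hJJ, smul_smul, Complex.conj_ofReal, hκr]
    rw [← Complex.ofReal_mul, ← Complex.ofReal_mul]
    have : r⁻¹ * r⁻¹ * (b / a) = 1 := by
      rw [← mul_inv, hr, Real.mul_self_sqrt hr0.le, inv_mul_cancel₀ hr0.ne']
    rw [← mul_assoc, this, Complex.ofReal_one, one_smul]

theorem exists_real_form [ρ.IsIrreducible] {T : (Matrix (Fin n) (Fin n) ℂ)ˣ}
    (hT : IsInv ρ (T : Matrix (Fin n) (Fin n) ℂ))
    (hsym : (T : Matrix (Fin n) (Fin n) ℂ)ᵀ = T) :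
    ∃ (m : ℕ) (σ : Representation ℝ G (Fin m → ℝ)), ∀ g : G,
      ((LinearMap.trace ℝ (Fin m → ℝ) (σ g) : ℝ) : ℂ) = ρ.character g := by
  obtain ⟨J, hJadd, hJsmul, hJeq, hJJ⟩ := exists_conj_involution ρ hT hsym
  have hJ0 : J 0 = 0 := by
    have := hJsmul 0 0
    simpa using this
  let W : Submodule ℝ (Fin n → ℂ) :=
    { carrier := {v | J v = v}
      add_mem' := fun {a b} ha hb => by
        show J (a + b) = a + b; rw [hJadd, ha, hb]
      zero_mem' := hJ0
      smul_mem' := fun c v hv => by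
        show J (c • v) = c • v
        rw [← Complex.coe_smul, hJsmul, Complex.conj_ofReal, hv] }
  let σW : Representation ℝ G W :=
    { toFun := fun g => ((ρ g).restrictScalars ℝ).restrict (p := W) (q := W) (fun v hv => by
        show J (ρ g v) = ρ g v
        rw [hJeq, hv])
      map_one' := LinearMap.ext fun w => Subtype.ext (by simp)
      map_mul' := fun g h => LinearMap.ext fun w => Subtype.ext (by simp) }
  let b := Module.finBasis ℝ W
  have hspan : ⊤ ≤ Submodule.span ℂ (Set.range fun i => (b i : Fin n → ℂ)) := by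
    intro v _
    have key : ∀ w : W, (w : Fin n → ℂ) ∈ Submodule.span ℂ (Set.range fun i => (b i : Fin n → ℂ)) := by
      intro w
      rw [← b.sum_repr w, Submodule.coe_sum]
      refine Submodule.sum_mem _ fun i _ => ?_
      rw [Submodule.coe_smul, ← Complex.coe_smul]
      exact Submodule.smul_mem _ _ (Submodule.subset_span ⟨i, rfl⟩)
    have h1 : J (v + J v) = v + J v := by rw [hJadd, hJJ, add_comm]
    have h2 : J (Complex.I • (v - J v)) = Complex.I • (v - J v) := by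
      rw [hJsmul, Complex.conj_I, sub_eq_add_neg, hJadd, ← neg_one_smul ℂ (J v), hJsmul, hJJ]
      simp only [map_neg, map_one]
      module
    have h3 : v = (2 : ℂ)⁻¹ • (v + J v) - ((2 : ℂ)⁻¹ * Complex.I) • (Complex.I • (v - J v)) := by
      rw [smul_smul, mul_assoc, Complex.I_mul_I]
      module
    rw [h3]
    exact Submodule.sub_mem _ (Submodule.smul_mem _ _ (key ⟨_, h1⟩))
      (Submodule.smul_mem _ _ (key ⟨_, h2⟩))
  have hli : LinearIndependent ℂ fun i => (b i : Fin n → ℂ) := by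
    rw [Fintype.linearIndependent_iff]
    intro c hc i
    have hJsum : ∀ (s : Finset (Fin (Module.finrank ℝ W))) (f : Fin (Module.finrank ℝ W) → Fin n → ℂ),
        J (∑ i ∈ s, f i) = ∑ i ∈ s, J (f i) := fun s f =>
      map_sum (AddMonoidHom.mk' J hJadd) f s
    have hc' : ∑ i, conj (c i) • (b i : Fin n → ℂ) = 0 := by
      have := congrArg J hc
      rw [hJ0, hJsum] at this
      rw [← this]
      exact Finset.sum_congr rfl fun i _ => by rw [hJsmul, (b i).2]
    have hre : ∀ d : Fin (Module.finrank ℝ W) → ℝ,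
        ∑ i, ((d i : ℝ) : ℂ) • (b i : Fin n → ℂ) = 0 → ∀ i, d i = 0 := by
      intro d hd
      refine Fintype.linearIndependent_iff.1 b.linearIndependent d (Subtype.ext ?_)
      rw [Submodule.coe_sum, ZeroMemClass.coe_zero, ← hd]
      exact Finset.sum_congr rfl fun i _ => by rw [Submodule.coe_smul, Complex.coe_smul]
    have h1 := hre (fun i => (c i).re) (by
      have : ∀ i, (((c i).re : ℝ) : ℂ) = (2 : ℂ)⁻¹ * (c i + conj (c i)) := fun i => by
        rw [Complex.add_conj]; push_cast; ring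
      simp only [this, mul_smul, add_smul, ← Finset.smul_sum, Finset.sum_add_distrib, hc, hc',
        add_zero, smul_zero])
    have h2 := hre (fun i => (c i).im) (by
      have : ∀ i, (((c i).im : ℝ) : ℂ) = ((2 : ℂ)⁻¹ * (-Complex.I)) * (c i - conj (c i)) := fun i => by
        rw [Complex.sub_conj]; push_cast; ring_nf; rw [Complex.I_sq]; ring
      simp only [this, mul_smul, sub_smul, ← Finset.smul_sum, Finset.sum_sub_distrib, hc, hc',
        sub_zero, smul_zero])
    exact Complex.ext (h1 i) (h2 i)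
  let bC := Basis.mk hli hspan
  refine ⟨_, (b.equivFun.conjAlgEquiv ℝ).toAlgHom.toMonoidHom.comp σW, fun g => ?_⟩
  show ((LinearMap.trace ℝ (Fin _ → ℝ) (b.equivFun.conj (σW g)) : ℝ) : ℂ) = _
  rw [LinearMap.trace_conj', LinearMap.trace_eq_matrix_trace ℝ b, Representation.character,
    LinearMap.trace_eq_matrix_trace ℂ bC, Matrix.trace, Matrix.trace, Complex.ofReal_sum]
  refine Finset.sum_congr rfl fun i _ => ?_
  simp only [Matrix.diag, LinearMap.toMatrix_apply]
  have h1 : ρ g (bC i) = ∑ j, ((b.repr (σW g (b i)) j : ℝ) : ℂ) • bC j := by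
    simp only [bC, Basis.coe_mk]
    have h2 := congrArg Subtype.val (b.sum_repr (σW g (b i)))
    rw [Submodule.coe_sum] at h2
    simp only [Submodule.coe_smul, ← Complex.coe_smul] at h2
    exact h2.symm
  rw [h1, map_sum, Finsupp.coe_finsetSum, Finset.sum_apply, Finset.sum_eq_single i]
  · rw [map_smul, Finsupp.smul_apply, Basis.repr_self, Finsupp.single_eq_same, smul_eq_mul, mul_one]
  · intro j _ hj
    rw [map_smul, Finsupp.smul_apply, Basis.repr_self, Finsupp.single_eq_of_ne hj.symm, smul_zero]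
  · simp

end CfsgLib.IndicatorForm
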